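import Mathlib.GroupTheory.PGroup
import Mathlib.GroupTheory.Index
import Mathlib.GroupTheory.Sylow
import Mathlib.GroupTheory.Nilpotent

/-!
# A criterion for a unique abelian subgroup of order 64

`A` is abelian of order 64, the cosets of `A` are represented by `R i`, and few elements of `A`
commute with the nontrivial `R i`.
-/

set_option autoImplicit false

namespace Cfsg.Lib.MathieuSylow

universe u

variable {S : Type u} [Group S] [Finite S]

theorem eq_of_abelian_card {A B : Subgroup S} [IsMulCommutative A] (hA : Nat.card A = 64)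
    (R : Fin 8 → S) (hR0 : R 0 ∈ A) (hcov : ∀ x : S, ∃ i, x * R i ∈ A)
    (h1 : ∀ i, i ≠ 0 → Nat.card (A ⊓ Subgroup.centralizer {R i} : Subgroup S) ≤ 16)
    (h2 : ∀ i j, i ≠ 0 → j ≠ 0 → i ≠ j →
      Nat.card (A ⊓ Subgroup.centralizer {R i, R j} : Subgroup S) ≤ 8)
    (h7 : Nat.card (A ⊓ Subgroup.centralizer {x | ∃ i, i ≠ 0 ∧ x = R i} : Subgroup S) ≤ 4)
    [IsMulCommutative B] (hB : Nat.card B = 64) : B = A := by
  classical
  choose ρ hρ using hcov
  set I : Finset (Fin 8) := Finset.univ.filter fun i => ∃ b ∈ B, ρ b = i with hI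
  have hfix : ∀ a ∈ B ⊓ A, ∀ i ∈ I, a * R i = R i * a := by
    rintro a ⟨haB, haA⟩ i hi
    obtain ⟨-, b, hb, rfl⟩ := Finset.mem_filter.1 hi
    have e1 : a * b = b * a := congrArg Subtype.val (mul_comm' (⟨a, haB⟩ : B) ⟨b, hb⟩)
    have e2 : a * (b * R (ρ b)) = (b * R (ρ b)) * a :=
      congrArg Subtype.val (mul_comm' (⟨a, haA⟩ : A) ⟨_, hρ b⟩)
    rw [← mul_assoc, e1, mul_assoc, mul_assoc] at e2
    exact mul_left_cancel e2
  have hex : ∀ i ∈ I, ∃ b ∈ B, ρ b = i := fun i hi => (Finset.mem_filter.1 hi).2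
  choose β hβB hβ using hex
  have hmemI : ∀ b : B, ρ b ∈ I := fun b => Finset.mem_filter.2 ⟨Finset.mem_univ _, b, b.2, rfl⟩
  let F : B → ↥I × ↥(B ⊓ A) := fun b =>
    (⟨ρ b, hmemI b⟩, ⟨(b : S) * (β _ (hmemI b))⁻¹, Subgroup.mem_inf.2 ⟨mul_mem b.2 (inv_mem (hβB _ _)), by
      have h3 := mul_mem (hρ b) (inv_mem (hρ (β _ (hmemI b))))
      rw [hβ _ (hmemI b)] at h3
      simpa [mul_assoc] using h3⟩⟩)
  have hF : Function.Injective F := by
    intro b c hbc
    have e1 : (⟨ρ b, hmemI b⟩ : ↥I) = ⟨ρ c, hmemI c⟩ := congrArg Prod.fst hbc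
    have e2 : (b : S) * (β _ (hmemI b))⁻¹ = c * (β _ (hmemI c))⁻¹ :=
      congrArg Subtype.val (congrArg Prod.snd hbc)
    have e3 : β _ (hmemI b) = β _ (hmemI c) := by
      have hg : ∀ (i j : ↥I), i = j → β i.1 i.2 = β j.1 j.2 := by rintro i j rfl; rfl
      exact hg ⟨ρ b, hmemI b⟩ ⟨ρ c, hmemI c⟩ e1
    rw [e3] at e2
    exact Subtype.ext (mul_right_cancel e2)
  have hcard : 64 ≤ I.card * Nat.card ↥(B ⊓ A) := by
    rw [← hB, ← Nat.card_eq_finsetCard, ← Nat.card_prod]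
    exact Nat.card_le_card_of_injective F hF
  have hle8 : I.card ≤ 8 := (Finset.card_le_univ I).trans (by simp)
  -- case analysis on the cosets met by `B`
  by_cases hone : ∀ i ∈ I, i = 0
  · refine Subgroup.eq_of_le_of_card_ge (fun b hb => ?_) (by rw [hA, hB])
    have h0 := hρ b
    rw [hone _ (hmemI ⟨b, hb⟩)] at h0
    simpa using mul_mem h0 (inv_mem hR0)
  push Not at hone
  obtain ⟨i, hi, hi0⟩ := hone
  exfalso
  have hcen : ∀ T : Set S, (∀ x ∈ T, ∃ k ∈ I, x = R k) →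
      Nat.card ↥(B ⊓ A) ≤ Nat.card (A ⊓ Subgroup.centralizer T : Subgroup S) := by
    intro T hT
    refine Subgroup.card_le_of_le fun a ha => ⟨ha.2, Subgroup.mem_centralizer_iff.2 fun x hx => ?_⟩
    obtain ⟨k, hk, rfl⟩ := hT x hx
    exact (hfix a ha k hk).symm
  by_cases hI2 : I.card ≤ 2
  · have h := (hcen {R i} (by rintro x rfl; exact ⟨i, hi, rfl⟩)).trans (h1 i hi0)
    have h' := Nat.mul_le_mul hI2 h
    omega
  obtain ⟨j, hj, hj'⟩ : ∃ j ∈ I, j ∉ ({0, i} : Finset (Fin 8)) := by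
    by_contra hcon
    push Not at hcon
    exact hI2 ((Finset.card_le_card (fun k hk => hcon k hk)).trans Finset.card_le_two)
  simp only [Finset.mem_insert, Finset.mem_singleton, not_or] at hj'
  by_cases hI8 : I.card ≤ 7
  · have h := (hcen {R i, R j} (by
      rintro x (rfl | rfl)
      exacts [⟨i, hi, rfl⟩, ⟨j, hj, rfl⟩])).trans (h2 i j hi0 hj'.1 (Ne.symm hj'.2))
    have h' := Nat.mul_le_mul hI8 h
    omega
  · have hIu : I = Finset.univ := Finset.eq_univ_of_card I (by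
      simp only [Fintype.card_fin]; omega)
    have h := (hcen {x | ∃ i, i ≠ 0 ∧ x = R i} (by
      rintro x ⟨k, -, rfl⟩
      exact ⟨k, hIu ▸ Finset.mem_univ k, rfl⟩)).trans h7
    have h' := Nat.mul_le_mul hle8 h
    omega

end Cfsg.Lib.MathieuSylow
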