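import Cfsg.Agent.Lib.MathieuSylow.CheckData
import Cfsg.Agent.Lib.MathieuSylow.Abstract
import Cfsg.Agent.Lib.FusionSys.MathieuCertNormalizer
import Cfsg.Agent.Lib.PGroup.Basic
import Cfsg.Prelude

/-!
# The Sylow 2-subgroup of M24 modulo its centre
-/

set_option autoImplicit false

namespace Cfsg.Lib.MathieuSylow

open Cfsg Cfsg.Lib.FusionSys.MathieuCert Cfsg.Lib.Concrete

attribute [local irreducible] pcode pmul toPerm prodL

/-- The model Sylow subgroup. -/
noncomputable def G0 : Subgroup (Equiv.Perm GolayPt) := Cert.grp certM24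

theorem hok0 : ∀ g p, g ∈ M24 → Rep g p → (fun _ : ℕ => true) p = true → g ∈ M24 := fun _ _ h _ _ => h

theorem G0_le : G0 ≤ M24 := Cert.grp_le hok0 certM24_genOK

theorem card_G0 : Nat.card G0 = 2 ^ 10 :=
  Cert.card_grp hok0 certM24_genOK certM24_treeOK certM24_closedOK

theorem isPGroup_G0 : IsPGroup 2 G0 := IsPGroup.of_card card_G0

/-- The packed form of an element of the model. -/
noncomputable def key (g : G0) : ℕ := pcode (g : Equiv.Perm GolayPt)

theorem key_rep (g : G0) : Rep (g : Equiv.Perm GolayPt) (key g) := by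
  obtain ⟨e, -, h⟩ := Cert.key_of_mem hok0 certM24_genOK certM24_treeOK certM24_closedOK g.2
  exact h

theorem key_injective : Function.Injective key := fun g h e =>
  Subtype.ext ((key_rep g).ext (by have := key_rep h; rwa [← e] at this))

theorem key_mem (g : G0) : ∃ e, (key g, e) ∈ certM24.t.toList ∧ certM24.t.find (key g) = some e := by
  obtain ⟨e, he, -⟩ := Cert.key_of_mem hok0 certM24_genOK certM24_treeOK certM24_closedOK g.2
  exact ⟨e, he, (Cert.node_spec hok0 certM24_genOK certM24_treeOK he).2.2.2.2.2⟩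

theorem key_mem_keys (g : G0) : key g ∈ certM24.keys := by
  obtain ⟨e, he, -⟩ := key_mem g
  exact List.mem_map.2 ⟨_, he, rfl⟩

/-- The element with a given packed form. -/
noncomputable def el (p : ℕ) : G0 :=
  open Classical in if h : ∃ g : G0, key g = p then h.choose else 1

theorem key_el {p : ℕ} (h : (certM24.t.find p).isSome) : key (el p) = p := by
  obtain ⟨e, he⟩ := Option.isSome_iff_exists.1 h
  obtain ⟨-, h2, h3, -⟩ := Cert.node_spec hok0 certM24_genOK certM24_treeOK (KT.find_mem he)
  have hex : ∃ g : G0, key g = p := ⟨⟨_, h3⟩, h2⟩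
  unfold el
  rw [dif_pos hex]
  exact hex.choose_spec

theorem el_key (g : G0) : el (key g) = g := key_injective (key_el (by
  obtain ⟨e, -, h⟩ := key_mem g
  rw [h]; rfl))

theorem key_mul (g h : G0) : pmul (key g) (key h) = key (g * h) :=
  pmul_eq_pcode (key_rep g) (key_rep h)

theorem key_one : key 1 = pId := pId_eq.symm

/-- The central involution. -/
noncomputable def z0 : G0 := el zp

theorem z_find : (certM24.t.find zp).isSome = true := by decide +kernel

theorem key_z0 : key z0 = zp := key_el z_find

theorem z_comm : (certM24.gp.all fun g => Nat.beq (pmul zp g) (pmul g zp)) = true := by decide +kernel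

theorem z_ne : Nat.beq zp pId = false := by decide +kernel

theorem z_central : z0 ∈ Subgroup.center G0 := by
  refine Subgroup.mem_center_iff.2 fun x => ?_
  obtain ⟨x, hx⟩ := x
  apply Subtype.ext
  show x * (z0 : Equiv.Perm GolayPt) = z0 * x
  unfold G0 Cert.grp at hx
  induction hx using Subgroup.closure_induction with
  | mem y hy =>
    obtain ⟨p, hp, rfl⟩ := hy
    have hr := (Cert.gp_rep hok0 certM24_genOK hp).1
    have hyG : toPerm p ∈ G0 := Subgroup.subset_closure ⟨p, hp, rfl⟩
    have h := List.all_eq_true.1 z_comm p hp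
    rw [Nat.beq_eq, ← key_z0, pmul_eq_pcode (key_rep z0) hr, pmul_eq_pcode hr (key_rep z0)] at h
    have e : z0 * ⟨_, hyG⟩ = ⟨_, hyG⟩ * z0 := key_injective h
    exact (congrArg Subtype.val e).symm
  | one => rw [one_mul, mul_one]
  | mul a b _ _ iha ihb => rw [mul_assoc, ihb, ← mul_assoc, iha, mul_assoc]
  | inv a _ iha => rw [inv_mul_eq_iff_eq_mul, ← mul_assoc, iha, mul_inv_cancel_right]

theorem center_G0 (g : G0) : g ∈ Subgroup.center G0 ↔ g = 1 ∨ g = z0 := by
  constructor
  · intro hg
    have hc := certM24_centerOK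
    simp only [Cert.centerOK, List.all_eq_true, Bool.or_eq_true, Bool.not_eq_true', Nat.beq_eq] at hc
    rcases hc _ (key_mem_keys g) with (h | h) | h
    · exfalso
      obtain ⟨p, hp, hne⟩ := List.all_eq_false.1 h
      refine hne ?_
      have hr := (Cert.gp_rep hok0 certM24_genOK hp).1
      have hyG : toPerm p ∈ G0 := Subgroup.subset_closure ⟨p, hp, rfl⟩
      rw [Nat.beq_eq, pmul_eq_pcode (key_rep g) hr, pmul_eq_pcode hr (key_rep g)]
      exact congrArg (fun v : G0 => pcode (v : Equiv.Perm GolayPt))
        (Subgroup.mem_center_iff.1 hg ⟨_, hyG⟩).symm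
    · exact Or.inl (key_injective (h.trans key_one.symm))
    · exact Or.inr (key_injective (h.trans key_z0.symm))
  · rintro (rfl | rfl)
    · exact one_mem _
    · exact z_central

theorem z0_ne_one : z0 ≠ 1 := fun e => by
  have h : zp = pId := by rw [← key_z0, e, key_one]
  have h2 : Nat.beq zp pId = true := by rw [h]; exact Nat.beq_refl _
  rw [z_ne] at h2
  exact Bool.noConfusion h2

theorem card_center : Nat.card (Subgroup.center G0) = 2 := by
  refine Nat.card_eq_two_iff.2 ⟨1, ⟨z0, z_central⟩, fun e => z0_ne_one (congrArg Subtype.val e).symm, ?_⟩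
  refine Set.eq_univ_iff_forall.2 fun x => ?_
  rcases (center_G0 x).1 x.2 with h | h
  · exact Or.inl (Subtype.ext h)
  · exact Or.inr (Subtype.ext h)

section
variable {S : Type*} [Group S] {π : G0 →* S} (hπ : Function.Surjective π)
  (hker : π.ker = Subgroup.center G0)

include hker in
theorem comm_iff (g h : G0) : comm (key g) (key h) = true ↔ π g * π h = π h * π g := by
  rw [comm, Bool.or_eq_true, Nat.beq_eq, Nat.beq_eq, key_mul, key_mul, ← key_z0, key_mul,
    key_injective.eq_iff, key_injective.eq_iff, ← map_mul, ← map_mul]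
  constructor
  · rintro (e | e)
    · rw [e]
    · rw [e, map_mul π (h * g), show π z0 = 1 from MonoidHom.mem_ker.1 (hker ▸ z_central), mul_one]
  · intro e
    have h1 : (h * g)⁻¹ * (g * h) ∈ Subgroup.center G0 := by
      rw [← hker, MonoidHom.mem_ker, map_mul π (h * g)⁻¹, map_inv, e, inv_mul_cancel]
    rcases (center_G0 _).1 h1 with h2 | h2
    · exact Or.inl (inv_mul_eq_one.1 h2).symm
    · exact Or.inr (inv_mul_eq_iff_eq_mul.1 h2)

include hπ hker in
theorem two_card_eq (X : Subgroup S) : Nat.card (X.comap π) = 2 * Nat.card X := by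
  have h1 : Nat.card (π.ker) * Nat.card X = Nat.card (X.comap π) := by
    rw [show π.ker = (⊥ : Subgroup S).comap π from π.comap_bot.symm]
    have h2 := Subgroup.card_mul_index ((⊥ : Subgroup S).comap π)
    have h3 := Subgroup.card_mul_index (X.comap π)
    rw [Subgroup.index_comap_of_surjective _ hπ] at h2 h3
    have h4 := Subgroup.card_mul_index X
    rw [Subgroup.index_bot, ← h4, ← mul_assoc] at h2
    exact Nat.eq_of_mul_eq_mul_right (Nat.pos_of_ne_zero fun h0 => by
      rw [h0, mul_zero] at h3; exact (Nat.card_pos (α := G0)).ne h3) (h2.trans h3.symm)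
  rw [← h1, hker, card_center]

include hπ hker in
theorem two_card_le_filter (X : Subgroup S) (f : ℕ × ℕ → Bool)
    (hf : ∀ g : G0, π g ∈ X → ∀ e, (key g, e) ∈ certM24.t.toList → f (key g, e) = true) :
    2 * Nat.card X ≤ (certM24.t.toList.filter f).length := by
  classical
  rw [← two_card_eq hπ hker X]
  refine le_trans ?_ (List.toFinset_card_le _)
  rw [← Nat.card_eq_finsetCard]
  choose e he hfe using key_mem
  refine Nat.card_le_card_of_injective (fun g : X.comap π => (⟨(key g.1, e g.1),
    List.mem_toFinset.2 (List.mem_filter.2 ⟨he g.1, hf g.1 g.2 _ (he g.1)⟩)⟩ :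
      {x // x ∈ (certM24.t.toList.filter f).toFinset})) fun a b hab => ?_
  exact Subtype.ext (key_injective (congrArg Prod.fst (congrArg Subtype.val hab)))

end

theorem prod_el : ∀ {L : List ℕ}, (∀ a ∈ L, (certM24.t.find a).isSome = true) → prodLOK L = true →
    key (L.map el).prod = prodL L := by
  intro L hL hok
  have hrep : ∀ a ∈ L, toPerm a = (el a : Equiv.Perm GolayPt) := fun a ha =>
    toPerm_eq (by have h := key_rep (el a); rwa [key_el (hL a ha)] at h)
  obtain ⟨-, h⟩ := rep_prodL (fun a ha => (by rw [hrep a ha]; have h := key_rep (el a); rwa [key_el (hL a ha)] at h)) hok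
  rw [h, key, Subgroup.val_list_prod, List.map_map]
  congr 2
  exact List.map_congr_left fun a ha => (hrep a ha).symm

theorem par_spec {G : Type*} [Group G] {M : Subgroup G} (hM : M.index = 2) (φ : ℕ → G) (dec : ℕ → Bool)
    (hdec : ∀ a, dec a = true ↔ φ a ∈ M) :
    ∀ (L : List ℕ) (e : ℕ), par (L.map dec) e = true ↔ ((sel L e).map φ).prod ∈ M := by
  intro L
  induction L with
  | nil => intro e; simp [par, sel]
  | cons a L ih =>
    intro e
    simp only [List.map_cons, par, sel]
    cases hb : Nat.beq (e % 2) 1 with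
    | true =>
      simp only [cond_true, List.map_cons, List.prod_cons]
      rw [Subgroup.mul_mem_iff_of_index_two hM, ← ih, ← hdec]
      cases dec a <;> cases par (L.map dec) (e / 2) <;> simp
    | false =>
      simp only [cond_false]
      exact ih _

theorem fun_enum : ∀ b₀ b₁ b₂ b₃ : Bool, ∃ f < 16,
    ([true, true, true, true, true, true, b₀, b₁, b₂, b₃] : List Bool) = wts f := by
  decide +kernel

theorem sq_data : ((List.range 6).all fun k =>
    (certM24.sq.getD k []).all fun p => (certM24.t.find p).isSome) = true := by decide +kernel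

theorem gp_find : (certM24.gp.all fun p => (certM24.t.find p).isSome) = true := by decide +kernel

theorem frattini_gens {M : Subgroup G0} (hM : M.index = 2) {k : ℕ} (hk : k < 6) :
    el (certM24.gp.getD k 0) ∈ M := by
  have h := certM24_sqOK
  simp only [Cert.sqOK, List.all_eq_true, List.mem_range, Bool.and_eq_true, Nat.beq_eq] at h
  obtain ⟨⟨hsome, hok⟩, heq⟩ := h k (show k < certM24.m from hk)
  set L := (certM24.sq.getD k []).map fun p => pmul p p with hL
  have hLel : ∀ a ∈ L, ∃ g : G0, a = key (g * g) := by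
    intro a ha
    obtain ⟨p, hp, rfl⟩ := List.mem_map.1 ha
    exact ⟨el p, by rw [← key_mul, key_el (hsome p hp)]⟩
  have hfind : ∀ a ∈ L, (certM24.t.find a).isSome = true := by
    intro a ha
    obtain ⟨g, rfl⟩ := hLel a ha
    obtain ⟨e, -, he⟩ := key_mem (g * g)
    rw [he]; rfl
  rw [← heq, ← prod_el hfind hok, el_key]
  refine Subgroup.list_prod_mem _ fun x hx => ?_
  obtain ⟨a, ha, rfl⟩ := List.mem_map.1 hx
  obtain ⟨g, rfl⟩ := hLel a ha
  rw [el_key]
  exact Subgroup.mul_self_mem_of_index_two hM g

theorem exists_functional {M : Subgroup G0} (hM : M.index = 2) :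
    ∃ f, 0 < f ∧ f < 16 ∧ ∀ g : G0, ∀ e, (key g, e) ∈ certM24.t.toList →
      (g ∈ M ↔ par (wts f) e = true) := by
  classical
  let dec : ℕ → Bool := fun a => decide (el a ∈ M)
  have hdec : ∀ a, dec a = true ↔ el a ∈ M := fun a => decide_eq_true_iff
  have h10 : certM24.gp.length = 10 := by decide +kernel
  obtain ⟨f, hf16, hf⟩ := fun_enum (dec (certM24.gp.getD 6 0)) (dec (certM24.gp.getD 7 0))
    (dec (certM24.gp.getD 8 0)) (dec (certM24.gp.getD 9 0))
  have hw : certM24.gp.map dec = wts f := by
    rw [← hf]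
    refine List.ext_getElem (by simpa using h10) fun k h1 h2 => ?_
    rw [List.getElem_map]
    have hk : k < certM24.gp.length := by simpa using h1
    rw [← List.getD_eq_getElem certM24.gp 0 hk]
    simp only [List.length_cons, List.length_nil] at h2
    by_cases h6 : k < 6
    · have ht := (hdec _).2 (frattini_gens hM h6)
      interval_cases k <;> simpa using ht
    · interval_cases k <;> rfl
  have key' : ∀ g : G0, ∀ e, (key g, e) ∈ certM24.t.toList → (g ∈ M ↔ par (wts f) e = true) := by
    intro g e he
    obtain ⟨hr, -, -, -, hprod, -⟩ := Cert.node_spec hok0 certM24_genOK certM24_treeOK he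
    rw [← hw, par_spec hM el dec hdec]
    suffices hg : g = ((sel certM24.gp e).map el).prod by rw [← hg]
    refine Subtype.ext ?_
    rw [Subgroup.val_list_prod, List.map_map, show (g : Equiv.Perm GolayPt) = toPerm (key g) from
      (toPerm_eq (key_rep g)).symm, hprod]
    congr 1
    refine List.map_congr_left fun a ha => ?_
    obtain ⟨k, hk, -⟩ := mem_sel ha
    refine toPerm_eq ?_
    have h := key_rep (el a)
    rwa [key_el (List.all_eq_true.1 gp_find a (List.mem_of_getElem? hk))] at h
  refine ⟨f, Nat.pos_of_ne_zero fun h0 => ?_, hf16, key'⟩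
  subst h0
  have htop : M = ⊤ := eq_top_iff.2 fun g _ => by
    obtain ⟨e, he, -⟩ := key_mem g
    refine (key' g e he).2 ?_
    clear he
    have hall : ∀ (n : ℕ) (d : ℕ), par (List.replicate n true) d = true := by
      intro n
      induction n with
      | zero => intro d; rfl
      | succ n ih =>
        intro d
        simp only [List.replicate_succ, par]
        cases Nat.beq (d % 2) 1 <;> simp [ih]
    rw [show wts 0 = List.replicate 10 true by decide +kernel]
    exact hall 10 e
  rw [htop, Subgroup.index_top] at hM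
  exact absurd hM (by norm_num)

universe u

/-- The facts for a quotient of the model by its centre. -/
theorem facts {S : Type u} [Group S] [Finite S] (π : G0 →* S) (hπ : Function.Surjective π)
    (hker : π.ker = Subgroup.center G0) :
    (∀ M : Subgroup S, IsCoatom M → Nat.card ↥(Subgroup.center ↥M) ≤ 8) ∧
      (∃ A : Subgroup S, Cfsg.IsElementaryAbelian 2 A ∧ Nat.card ↥A = 64) ∧
      ∀ A B : Subgroup S, IsMulCommutative ↥A → Nat.card ↥A = 64 → IsMulCommutative ↥B →
        Nat.card ↥B = 64 → A = B := by
  classical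
  haveI : Fact (Nat.Prime 2) := ⟨Nat.prime_two⟩
  refine ⟨?_, ?_⟩
  · intro M hM
    have hSp : IsPGroup 2 S := isPGroup_G0.of_surjective π hπ
    have hidx : (M.comap π).index = 2 := by
      rw [Subgroup.index_comap_of_surjective _ hπ, PGroup.index_of_isCoatom hSp hM]
    obtain ⟨f, hf0, hf16, hf⟩ := exists_functional hidx
    have ht := List.all_eq_true.1 tests_ok f (by
      have : f ∈ (List.range 16).tail := by
        rw [List.range_eq_range', List.tail_range', List.mem_range'_1]
        omega
      exact this)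
    simp only [centerBound, Bool.and_eq_true, List.all_eq_true, Nat.ble_eq] at ht
    obtain ⟨hY, hlen⟩ := ht
    set Y := tests.getD (f - 1) [] with hYdef
    set Zc := (Subgroup.center ↥M).map M.subtype with hZc
    have hc : Nat.card (Subgroup.center ↥M) = Nat.card Zc :=
      (Subgroup.card_map_of_injective M.subtype_injective).symm
    have hle := two_card_le_filter hπ hker Zc
      (fun x => par (wts f) x.2 && Y.all (fun y => comm x.1 y)) (by
        intro g hg e he
        obtain ⟨⟨m, hm⟩, hmc, hmg⟩ := hg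
        change m = π g at hmg
        subst hmg
        simp only [Bool.and_eq_true, List.all_eq_true]
        refine ⟨(hf g e he).1 hm, fun y hy => ?_⟩
        have hy' := hY y hy
        split at hy'
        · rename_i ey hey
          have hkey : key (el y) = y := key_el (by rw [hey]; rfl)
          have hyM : π (el y) ∈ M := (hf (el y) ey (by rw [hkey]; exact KT.find_mem hey)).2 hy'
          rw [← hkey, comm_iff hker]
          exact (congrArg Subtype.val (Subgroup.mem_center_iff.1 hmc ⟨_, hyM⟩)).symm
        · exact absurd hy' (by simp))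
    rw [hc]
    omega
  -- the abelian subgroup
  have hgens := abGens_ok
  simp only [List.all_eq_true, Bool.and_eq_true, Bool.or_eq_true, Nat.beq_eq] at hgens
  set T : Set S := {s | ∃ a ∈ abGens, s = π (el a)} with hT
  set A : Subgroup S := Subgroup.centralizer T with hAdef
  have hA_iff : ∀ g : G0, π g ∈ A ↔ inAb (key g) = true := by
    intro g
    simp only [inAb, List.all_eq_true]
    constructor
    · intro h a ha
      rw [← key_el (hgens a ha).1.1, comm_iff hker]
      exact (Subgroup.mem_centralizer_iff.1 h _ ⟨a, ha, rfl⟩).symm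
    · intro h
      refine Subgroup.mem_centralizer_iff.2 ?_
      rintro _ ⟨a, ha, rfl⟩
      have h1 := h a ha
      rw [← key_el (hgens a ha).1.1, comm_iff hker] at h1
      exact h1.symm
  have hAcard : Nat.card A = 64 := by
    have h1 : Nat.card (A.comap π) = 128 := by
      rw [← abKeys_len]
      have hnd : abKeys.Nodup := by
        refine List.Nodup.filter _ ?_
        have h := certM24_treeOK
        simp only [Cert.treeOK, Bool.and_eq_true] at h
        exact (nodup_of_incr h.1.1).imp fun hab => hab.ne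
      rw [← List.toFinset_card_of_nodup hnd, ← Nat.card_eq_finsetCard]
      refine Nat.card_congr (Equiv.ofBijective (fun g : A.comap π => (⟨key g.1, List.mem_toFinset.2
        (List.mem_filter.2 ⟨key_mem_keys g.1, (hA_iff g.1).1 g.2⟩)⟩ : {x // x ∈ abKeys.toFinset}))
        ⟨fun a b hab => Subtype.ext (key_injective (congrArg Subtype.val hab)), fun p => ?_⟩)
      obtain ⟨hp, hpA⟩ := List.mem_filter.1 (List.mem_toFinset.1 p.2)
      obtain ⟨⟨q, e⟩, he, hq⟩ := List.mem_map.1 hp
      change q = p.1 at hq
      subst hq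
      have hk : key (el p.1) = p.1 := key_el (by
        rw [(Cert.node_spec hok0 certM24_genOK certM24_treeOK he).2.2.2.2.2]; rfl)
      exact ⟨⟨el p.1, (hA_iff _).2 (hk.symm ▸ hpA)⟩, Subtype.ext hk⟩
    have h2 := two_card_eq hπ hker A
    omega
  have hAclos : A ≤ Subgroup.closure T := by
    intro s hs
    obtain ⟨g, rfl⟩ := hπ s
    have hmem : key g ∈ abKeys := List.mem_filter.2 ⟨key_mem_keys g, (hA_iff g).1 hs⟩
    obtain ⟨e, he, heq⟩ := List.any_eq_true.1 (List.all_eq_true.1 abKeys_gen _ (abKeys_eq ▸ hmem))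
    rw [Nat.beq_eq] at heq
    have hsel : ∀ a ∈ sel (abGens ++ [zp]) e, a ∈ abGens ++ [zp] := fun a ha => by
      obtain ⟨k, hk, -⟩ := mem_sel ha
      exact List.mem_of_getElem? hk
    have hfind : ∀ a ∈ sel (abGens ++ [zp]) e, (certM24.t.find a).isSome = true := fun a ha => by
      rcases List.mem_append.1 (hsel a ha) with h | h
      · exact (hgens a h).1.1
      · rw [List.mem_singleton.1 h]; exact z_find
    rw [← prod_el hfind (List.all_eq_true.1 abProd_ok e he)] at heq
    rw [← key_injective heq, map_list_prod]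
    refine Subgroup.list_prod_mem _ fun x hx => ?_
    obtain ⟨w, hw, rfl⟩ := List.mem_map.1 hx
    obtain ⟨a, ha, rfl⟩ := List.mem_map.1 hw
    rcases List.mem_append.1 (hsel a ha) with h | h
    · exact Subgroup.subset_closure ⟨a, h, rfl⟩
    · rw [List.mem_singleton.1 h, show el zp = z0 from rfl,
        show π z0 = 1 from MonoidHom.mem_ker.1 (hker ▸ z_central)]
      exact one_mem _
  have hTT : T ⊆ A := by
    rintro _ ⟨a, ha, rfl⟩
    rw [SetLike.mem_coe, hA_iff, key_el (hgens a ha).1.1]
    exact (hgens a ha).1.2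
  haveI hAab : IsMulCommutative A := ⟨⟨fun x y => Subtype.ext (by
    have h1 : T ⊆ Subgroup.centralizer ({(x : S)} : Set S) := fun t ht =>
      Subgroup.mem_centralizer_singleton_iff.2 (Subgroup.mem_centralizer_iff.1 x.2 t ht)
    have h2 : (y : S) ∈ Subgroup.centralizer ({(x : S)} : Set S) :=
      (Subgroup.closure_le _).2 h1 (hAclos y.2)
    exact (Subgroup.mem_centralizer_singleton_iff.1 h2).symm)⟩⟩
  have hA2 : ∀ x ∈ A, x ^ 2 = 1 := by
    intro x hx
    have hx' := hAclos hx
    clear hx
    suffices ∀ y ∈ Subgroup.closure T, y ∈ A ∧ y ^ 2 = 1 from (this x hx').2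
    intro y hy
    induction hy using Subgroup.closure_induction with
    | mem y hy =>
      refine ⟨hTT hy, ?_⟩
      obtain ⟨a, ha, rfl⟩ := hy
      rw [pow_two, ← map_mul, ← MonoidHom.mem_ker, hker, center_G0]
      rcases (hgens a ha).2 with h | h
      · rw [← key_el (hgens a ha).1.1, key_mul, ← key_one] at h
        exact Or.inl (key_injective h)
      · rw [← key_el (hgens a ha).1.1, key_mul, ← key_z0] at h
        exact Or.inr (key_injective h)
    | one => exact ⟨one_mem _, one_pow _⟩
    | mul a b _ _ iha ihb =>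
      refine ⟨mul_mem iha.1 ihb.1, ?_⟩
      have hc : Commute a b := congrArg Subtype.val (mul_comm' (⟨a, iha.1⟩ : A) ⟨b, ihb.1⟩)
      rw [hc.mul_pow, iha.2, ihb.2, mul_one]
    | inv a _ iha => exact ⟨inv_mem iha.1, by rw [inv_pow, iha.2, inv_one]⟩
  refine ⟨⟨A, ⟨hAab, hA2⟩, hAcard⟩, ?_⟩
  -- uniqueness
  let R : Fin 8 → S := fun i => π (el (reps.getD i.val 0))
  have hRmem : ∀ i : Fin 8, reps.getD i.val 0 ∈ reps := fun i => by
    rw [List.getD_eq_getElem _ _ (by rw [reps_len]; exact i.2)]
    exact List.getElem_mem _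
  have hRkey : ∀ i : Fin 8, key (el (reps.getD i.val 0)) = reps.getD i.val 0 := fun i =>
    key_el (List.all_eq_true.1 reps_ok _ (hRmem i))
  have hcount : ∀ (rs : List ℕ) (U : Set S), (∀ r ∈ rs, key (el r) = r ∧ π (el r) ∈ U) →
      2 * Nat.card (A ⊓ Subgroup.centralizer U : Subgroup S) ≤ cntAb rs := by
    intro rs U hrs
    rw [← two_card_eq hπ hker]
    unfold cntAb
    rw [← abKeys_eq]
    refine le_trans ?_ (List.toFinset_card_le _)
    rw [← Nat.card_eq_finsetCard]
    refine Nat.card_le_card_of_injective (fun g : (A ⊓ Subgroup.centralizer U).comap π => (⟨key g.1,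
      List.mem_toFinset.2 (List.mem_filter.2 ⟨List.mem_filter.2 ⟨key_mem_keys g.1, (hA_iff g.1).1 g.2.1⟩,
        List.all_eq_true.2 fun r hr => ?_⟩)⟩ : {x // x ∈ (abKeys.filter fun p => rs.all fun r => comm p r).toFinset}))
      fun a b hab => Subtype.ext (key_injective (congrArg Subtype.val hab))
    rw [← (hrs r hr).1, comm_iff hker]
    exact (Subgroup.mem_centralizer_iff.1 g.2.2 _ (hrs r hr).2).symm
  have htail : ∀ i : Fin 8, i ≠ 0 → i.val ∈ (List.range 8).tail := fun i hi => by
    rw [List.range_eq_range', List.tail_range', List.mem_range'_1]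
    have : i.val ≠ 0 := fun h => hi (Fin.ext h)
    omega
  have hsing := single_ok
  have hpair := pair_ok
  simp only [List.all_eq_true, Nat.ble_eq, Bool.or_eq_true] at hsing hpair
  have key64 : ∀ B : Subgroup S, IsMulCommutative ↥B → Nat.card ↥B = 64 → B = A := by
    intro B hBc hB
    refine eq_of_abelian_card hAcard R ?_ ?_ ?_ ?_ ?_ hB
    · show π (el (reps.getD 0 0)) ∈ A
      rw [hA_iff, show key (el (reps.getD 0 0)) = reps.getD 0 0 from hRkey 0]
      exact rep_zero
    · intro x
      obtain ⟨g, rfl⟩ := hπ x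
      obtain ⟨r, hr, hrA⟩ := List.any_eq_true.1 (List.all_eq_true.1 cover_ok _ (key_mem_keys g))
      obtain ⟨i, hi, rfl⟩ := List.getElem_of_mem hr
      refine ⟨⟨i, by rw [← reps_len]; exact hi⟩, ?_⟩
      show π g * π (el (reps.getD i 0)) ∈ A
      rw [← map_mul, hA_iff, ← key_mul, List.getD_eq_getElem _ _ hi,
        key_el (List.all_eq_true.1 reps_ok _ (List.getElem_mem hi))]
      exact hrA
    · intro i hi
      have h := (hcount [reps.getD i.val 0] {R i} (fun r hr => by
        rw [List.mem_singleton.1 hr]; exact ⟨hRkey i, rfl⟩)).trans (hsing _ (htail i hi))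
      omega
    · intro i j hi hj hij
      wlog hlt : i.val < j.val generalizing i j
      · rw [Set.pair_comm]
        exact this j i hj hi (Ne.symm hij) (lt_of_le_of_ne (not_lt.1 hlt) fun h => hij (Fin.ext h.symm))
      have hb := (hpair _ (htail i hi) _ (htail j hj)).resolve_left (by omega)
      have h := (hcount [reps.getD i.val 0, reps.getD j.val 0] {R i, R j} (fun r hr => by
        rcases List.mem_cons.1 hr with rfl | hr
        · exact ⟨hRkey i, Or.inl rfl⟩
        · rw [List.mem_singleton.1 hr]; exact ⟨hRkey j, Or.inr rfl⟩)).trans hb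
      omega
    · have hb := all_ok
      rw [Nat.ble_eq] at hb
      have h := (hcount reps.tail {x | ∃ i, i ≠ 0 ∧ x = R i} (fun r hr => by
        obtain ⟨k, hk, rfl⟩ := List.getElem_of_mem hr
        rw [List.length_tail, reps_len] at hk
        rw [List.getElem_tail, ← List.getD_eq_getElem _ 0]
        refine ⟨hRkey ⟨k + 1, by omega⟩, ⟨k + 1, by omega⟩, ?_, rfl⟩
        intro h0
        exact absurd (congrArg Fin.val h0) (by simp))).trans hb
      omega
  intro B C hB hB' hC hC'
  rw [key64 B hB hB', key64 C hC hC']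

/-- The facts for the Sylow 2-subgroups of M24. -/
theorem facts_sylow (P : Sylow 2 ↥Cfsg.M24) :
    (∀ M : Subgroup (↥(P : Subgroup ↥Cfsg.M24) ⧸ Subgroup.center ↥(P : Subgroup ↥Cfsg.M24)), IsCoatom M →
        Nat.card ↥(Subgroup.center ↥M) ≤ 8) ∧
      (∃ A : Subgroup (↥(P : Subgroup ↥Cfsg.M24) ⧸ Subgroup.center ↥(P : Subgroup ↥Cfsg.M24)),
        Cfsg.IsElementaryAbelian 2 A ∧ Nat.card ↥A = 64) ∧
      ∀ A B : Subgroup (↥(P : Subgroup ↥Cfsg.M24) ⧸ Subgroup.center ↥(P : Subgroup ↥Cfsg.M24)),
        IsMulCommutative ↥A → Nat.card ↥A = 64 → IsMulCommutative ↥B → Nat.card ↥B = 64 → A = B := by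
  haveI : Fact (Nat.Prime 2) := ⟨Nat.prime_two⟩
  have hcardX : Nat.card (G0.subgroupOf M24) = 2 ^ (Nat.card M24).factorization 2 := by
    rw [Nat.card_congr (Subgroup.subgroupOfEquivOfLe G0_le).toEquiv, card_G0, card_M24,
      show (244823040 : ℕ) = 2 ^ 10 * 239085 by norm_num, Nat.factorization_mul (by norm_num) (by norm_num),
      Finsupp.add_apply, Nat.Prime.factorization_pow Nat.prime_two, Finsupp.single_eq_same,
      Nat.factorization_eq_zero_of_not_dvd (by norm_num), add_zero]
  let P₀ : Sylow 2 M24 := Sylow.ofCard (G0.subgroupOf M24) hcardX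
  have hP₀ : (P₀ : Subgroup M24) = G0.subgroupOf M24 := Sylow.coe_ofCard _ hcardX
  let e : G0 ≃* ↥(P : Subgroup ↥Cfsg.M24) :=
    ((Subgroup.subgroupOfEquivOfLe G0_le).symm.trans (MulEquiv.subgroupCongr hP₀.symm)).trans (P₀.equiv P)
  let π : G0 →* (↥(P : Subgroup ↥Cfsg.M24) ⧸ Subgroup.center ↥(P : Subgroup ↥Cfsg.M24)) :=
    (QuotientGroup.mk' _).comp e.toMonoidHom
  have hπ : Function.Surjective π := (QuotientGroup.mk'_surjective _).comp e.surjective
  refine facts π hπ ?_
  ext g
  rw [MonoidHom.mem_ker]
  simp only [π, MonoidHom.comp_apply, QuotientGroup.mk'_apply, QuotientGroup.eq_one_iff,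
    MulEquiv.coe_toMonoidHom, Subgroup.mem_center_iff]
  constructor
  · intro h x
    exact e.injective (by rw [map_mul, map_mul, h])
  · intro h y
    obtain ⟨x, rfl⟩ := e.surjective y
    rw [← map_mul, ← map_mul, h]

end Cfsg.Lib.MathieuSylow
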