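import Cfsg.Agent.Lib.FusionSys.MathieuCertM24
import Cfsg.Agent.Lib.MathieuSylow.Data

/-!
# Finite checks for the Sylow 2-subgroup of M24 modulo its centre
-/

set_option autoImplicit false

namespace Cfsg.Lib.MathieuSylow

open Cfsg.Lib.FusionSys.MathieuCert Cfsg.Lib.Concrete

/-- The packed central involution. -/
def zp : ℕ := certM24.z

/-- The packed products commute modulo the centre. -/
def comm (p q : ℕ) : Bool :=
  Nat.beq (pmul p q) (pmul q p) || Nat.beq (pmul p q) (pmul (pmul q p) zp)

/-- Membership in the abelian subgroup. -/
def inAb (p : ℕ) : Bool := abGens.all fun a => comm p a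

/-- Membership in a subgroup of index at most two, from the memberships of the generators. -/
def par : List Bool → ℕ → Bool
  | [], _ => true
  | a :: w, e => bif Nat.beq (e % 2) 1 then a == par w (e / 2) else par w (e / 2)

/-- The memberships of the generators for a functional. -/
def wts (f : ℕ) : List Bool := (List.range 10).map fun k => Nat.blt k 6 || !(f.testBit (k - 6))

/-- The packed elements of the abelian subgroup. -/
def abKeys : List ℕ := certM24.keys.filter inAb

/-- The number of elements of the abelian subgroup commuting with given ones. -/
def cntAb (rs : List ℕ) : ℕ := (abList.filter fun p => rs.all fun r => comm p r).length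

/-- The bound for a functional. -/
def centerBound (f : ℕ) : Bool :=
  let Y := tests.getD (f - 1) []
  (Y.all fun y => match certM24.t.find y with
    | some e => par (wts f) e
    | none => false) &&
  Nat.ble ((certM24.t.toList.filter fun x => par (wts f) x.2 && Y.all (fun y => comm x.1 y)).length) 16

end Cfsg.Lib.MathieuSylow
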