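import Cfsg.Agent.Lib.MathieuSylow.Checks

/-!
# Evaluation of the finite checks
-/

set_option autoImplicit false

namespace Cfsg.Lib.MathieuSylow

open Cfsg.Lib.FusionSys.MathieuCert Cfsg.Lib.Concrete

theorem tests_ok : ((List.range 16).tail.all centerBound) = true := by decide +kernel

theorem abGens_ok : (abGens.all fun a => (certM24.t.find a).isSome && inAb a &&
    (Nat.beq (pmul a a) pId || Nat.beq (pmul a a) zp)) = true := by decide +kernel

theorem abKeys_eq : abKeys = abList := by decide +kernel

theorem abKeys_len : abKeys.length = 128 := by rw [abKeys_eq]; decide +kernel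

theorem abKeys_gen : (abList.all fun p => (List.range 128).any fun e =>
    Nat.beq (prodL (sel (abGens ++ [zp]) e)) p) = true := by decide +kernel

theorem abProd_ok : ((List.range 128).all fun e => prodLOK (sel (abGens ++ [zp]) e)) = true := by
  decide +kernel

theorem reps_ok : (reps.all fun r => (certM24.t.find r).isSome) = true := by decide +kernel

theorem reps_len : reps.length = 8 := by decide +kernel

theorem cover_ok : (certM24.keys.all fun p => reps.any fun r => inAb (pmul p r)) = true := by
  decide +kernel

theorem rep_zero : inAb (reps.getD 0 0) = true := by decide +kernel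

theorem single_ok : ((List.range 8).tail.all fun i => Nat.ble (cntAb [reps.getD i 0]) 32) = true := by
  decide +kernel

theorem pair_ok : ((List.range 8).tail.all fun i => (List.range 8).tail.all fun j =>
    Nat.ble j i || Nat.ble (cntAb [reps.getD i 0, reps.getD j 0]) 16) = true := by
  decide +kernel

theorem all_ok : Nat.ble (cntAb reps.tail) 8 = true := by decide +kernel

end Cfsg.Lib.MathieuSylow
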